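import Cfsg.Agent.Lib.Perm.Asch.Forms.Sp
import Cfsg.Agent.Lib.Perm.Trans.SympMax
import Cfsg.Agent.Lib.Perm.Trans.QuadTransitive

/-!
# The Klein correspondence for four-dimensional symplectic groups

The self-adjoint matrices of trace zero of the symplectic space of dimension four form a five-dimensional space whose
squares are scalars; conjugation maps the symplectic group onto `Ω` of that quadratic space, with kernel `±1`.
-/

set_option autoImplicit false
set_option linter.all false

namespace CfsgLib.Perm.Trans.KleinFour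

open scoped Matrix commutatorElement
open Matrix Cfsg Cfsg.Geo CfsgLib.Perm.Asch CfsgLib.Perm.Trans
open CfsgLib.Perm.Trans.Symp (isoSub)

variable {F : Type*} [Field F]

/-- the coordinates of the symplectic space -/
abbrev I4 : Type := Fin 2 ⊕ Fin 2

/-- the adjoint for the standard alternating form -/
noncomputable abbrev ad (A : Matrix I4 I4 F) : Matrix I4 I4 F := adj (RingHom.id F) (Matrix.J (Fin 2) F) A

/-- the self-adjoint matrix of trace zero with the given coordinates -/
def klein (v : Fin 5 → F) : Matrix I4 I4 F :=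
  Matrix.fromBlocks !![v 0, v 1; v 2, -v 0] !![0, v 3; -v 3, 0] !![0, v 4; -v 4, 0] !![v 0, v 2; v 1, -v 0]

/-- the coordinates of a self-adjoint matrix -/
def coord (A : Matrix I4 I4 F) : Fin 5 → F :=
  ![A (.inl 0) (.inl 0), A (.inl 0) (.inl 1), A (.inl 1) (.inl 0), A (.inl 0) (.inr 1), A (.inr 0) (.inl 1)]

/-- the square of the matrix with coordinates `v` -/
def qk (v : Fin 5 → F) : F := v 0 * v 0 + v 1 * v 2 - v 3 * v 4

theorem coord_klein (v : Fin 5 → F) : coord (klein v) = v := by
  funext i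
  fin_cases i <;> simp [coord, klein]

theorem klein_add (u v : Fin 5 → F) : klein (u + v) = klein u + klein v := by
  ext i j
  rcases i with i | i <;> rcases j with j | j <;> fin_cases i <;> fin_cases j <;> simp [klein] <;> ring

theorem klein_smul (c : F) (v : Fin 5 → F) : klein (c • v) = c • klein v := by
  ext i j
  rcases i with i | i <;> rcases j with j | j <;> fin_cases i <;> fin_cases j <;> simp [klein]

theorem klein_zero : klein (0 : Fin 5 → F) = 0 := by
  ext i j
  rcases i with i | i <;> rcases j with j | j <;> fin_cases i <;> fin_cases j <;> simp [klein]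

theorem klein_injective {u v : Fin 5 → F} (h : klein u = klein v) : u = v := by
  rw [← coord_klein u, h, coord_klein]

theorem klein_mul_self (v : Fin 5 → F) : klein v * klein v = qk v • (1 : Matrix I4 I4 F) := by
  ext i j
  rcases i with i | i <;> rcases j with j | j <;> fin_cases i <;> fin_cases j <;>
    simp [klein, qk, Matrix.mul_apply, Fintype.sum_sum_type, Fin.sum_univ_two] <;> ring

theorem polar_qk (u v : Fin 5 → F) :
    QuadraticMap.polar qk u v = 2 * (u 0 * v 0) + u 1 * v 2 + v 1 * u 2 - u 3 * v 4 - v 3 * u 4 := by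
  simp [QuadraticMap.polar, qk]
  ring

theorem klein_anti (u v : Fin 5 → F) :
    klein u * klein v + klein v * klein u = QuadraticMap.polar qk u v • (1 : Matrix I4 I4 F) := by
  have h := klein_mul_self (u + v)
  rw [klein_add, add_mul, mul_add, mul_add, klein_mul_self, klein_mul_self] at h
  rw [QuadraticMap.polar, sub_smul, sub_smul, ← h]
  abel

theorem klein_adj (v : Fin 5 → F) : ad (klein v) = klein v := by
  refine refl_J.adj_eq ?_
  ext i j
  rcases i with i | i <;> rcases j with j | j <;> fin_cases i <;> fin_cases j <;>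
    simp [klein, Matrix.J, Matrix.mul_apply, Fintype.sum_sum_type, Fin.sum_univ_two]

theorem klein_trace (v : Fin 5 → F) : (klein v).trace = 0 := by
  simp [klein, Matrix.trace, Fintype.sum_sum_type, Fin.sum_univ_two]

theorem klein_coord (h2 : (2 : F) ≠ 0) {A : Matrix I4 I4 F} (ha : ad A = A) (ht : A.trace = 0) :
    klein (coord A) = A := by
  have h : Aᵀ * Matrix.J (Fin 2) F = Matrix.J (Fin 2) F * A := by
    conv_rhs => rw [← ha]
    have h' := (refl_J (F := F) (m := 2)).mul_map_adj A
    rw [← h']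
    congr 1
  have e := fun i j => congrFun (congrFun h i) j
  simp only [Matrix.mul_apply, Fintype.sum_sum_type, Fin.sum_univ_two, Matrix.transpose_apply, Matrix.J,
    Matrix.fromBlocks_apply₁₁, Matrix.fromBlocks_apply₁₂, Matrix.fromBlocks_apply₂₁, Matrix.fromBlocks_apply₂₂,
    Matrix.zero_apply, Matrix.neg_apply, Matrix.one_apply] at e
  simp only [Matrix.trace, Matrix.diag, Fintype.sum_sum_type, Fin.sum_univ_two] at ht
  have k1 := e (.inl 0) (.inl 0)
  have k2 := e (.inl 0) (.inl 1)
  have k3 := e (.inl 1) (.inl 1)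
  have k4 := e (.inr 0) (.inr 0)
  have k5 := e (.inr 0) (.inr 1)
  have k6 := e (.inr 1) (.inr 1)
  have k7 := e (.inl 0) (.inr 0)
  have k8 := e (.inl 0) (.inr 1)
  have k9 := e (.inl 1) (.inr 0)
  have k10 := e (.inl 1) (.inr 1)
  simp at k1 k2 k3 k4 k5 k6 k7 k8 k9 k10
  ext i j
  rcases i with i | i <;> rcases j with j | j <;> fin_cases i <;> fin_cases j <;> simp [klein, coord] <;>
    first
    | linear_combination k1 | linear_combination k2 | linear_combination k3 | linear_combination k4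
    | linear_combination k5 | linear_combination k6 | linear_combination k7 | linear_combination k8
    | linear_combination k9 | linear_combination k10 | linear_combination -k1 | linear_combination -k2
    | linear_combination -k3 | linear_combination -k4 | linear_combination -k5 | linear_combination -k6
    | linear_combination -k7 | linear_combination -k8 | linear_combination -k9 | linear_combination -k10
    | (refine mul_left_cancel₀ h2 ?_; first
        | linear_combination k1 | linear_combination k3 | linear_combination k4 | linear_combination k6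
        | linear_combination -k1 | linear_combination -k3 | linear_combination -k4 | linear_combination -k6
        | linear_combination -ht + k7 + k10 | linear_combination -ht - k7 - k10 | linear_combination ht + k7 + k10
        | linear_combination ht - k7 - k10 | linear_combination -ht + k7 - k10 | linear_combination -ht - k7 + k10)

theorem qk_nd (h2 : (2 : F) ≠ 0) : IsNondegenerateQuadraticForm (qk : (Fin 5 → F) → F) := by
  refine ⟨fun c v => by simp [qk]; ring, ⟨?_, ?_, ?_, ?_⟩, fun v hv => ?_⟩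
  · intro x y v; simp [polar_qk]; ring
  · intro c x v; simp [polar_qk]; ring
  · intro v x y; simp [polar_qk]; ring
  · intro c v x; simp [polar_qk]; ring
  · obtain ⟨i, hi⟩ := Function.ne_iff.1 hv
    have hsym : ∀ w, QuadraticMap.polar qk v w = QuadraticMap.polar qk w v := QuadraticMap.polar_comm _ v
    fin_cases i
    · exact ⟨⟨Pi.single 0 1, by simpa [polar_qk, Pi.single_apply, h2] using hi⟩,
        ⟨Pi.single 0 1, by simpa [polar_qk, Pi.single_apply, h2] using hi⟩⟩
    · exact ⟨⟨Pi.single 2 1, by simpa [polar_qk, Pi.single_apply] using hi⟩,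
        ⟨Pi.single 2 1, by simpa [polar_qk, Pi.single_apply] using hi⟩⟩
    · exact ⟨⟨Pi.single 1 1, by simpa [polar_qk, Pi.single_apply] using hi⟩,
        ⟨Pi.single 1 1, by simpa [polar_qk, Pi.single_apply] using hi⟩⟩
    · exact ⟨⟨Pi.single 4 1, by simpa [polar_qk, Pi.single_apply] using hi⟩,
        ⟨Pi.single 4 1, by simpa [polar_qk, Pi.single_apply] using hi⟩⟩
    · exact ⟨⟨Pi.single 3 1, by simpa [polar_qk, Pi.single_apply] using hi⟩,
        ⟨Pi.single 3 1, by simpa [polar_qk, Pi.single_apply] using hi⟩⟩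

theorem mem_sp_iff {g : GL I4 F} :
    g ∈ spGL 2 F ↔ ad (g : Matrix I4 I4 F) = ((g⁻¹ : GL I4 F) : Matrix I4 I4 F) := by
  rw [spGL_eq]
  exact refl_J.adj_mem_iff

/-- the linear map induced on the coordinates by conjugation -/
def kmap (g : GL I4 F) : (Fin 5 → F) →ₗ[F] Fin 5 → F where
  toFun v := coord ((g : Matrix I4 I4 F) * klein v * ((g⁻¹ : GL I4 F) : Matrix I4 I4 F))
  map_add' u v := by
    funext i
    fin_cases i <;> simp [coord, klein_add, mul_add, add_mul]
  map_smul' c v := by
    funext i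
    fin_cases i <;> simp [coord, klein_smul]

theorem klein_kmap (h2 : (2 : F) ≠ 0) {g : GL I4 F} (hg : g ∈ spGL 2 F) (v : Fin 5 → F) :
    klein (kmap g v) = (g : Matrix I4 I4 F) * klein v * ((g⁻¹ : GL I4 F) : Matrix I4 I4 F) := by
  refine klein_coord h2 ?_ ?_
  · show adj (RingHom.id F) (Matrix.J (Fin 2) F) _ = _
    rw [refl_J.adj_mul, refl_J.adj_mul]
    rw [show adj (RingHom.id F) (Matrix.J (Fin 2) F) (g : Matrix I4 I4 F) = _ from mem_sp_iff.1 hg,
      show adj (RingHom.id F) (Matrix.J (Fin 2) F) ((g⁻¹ : GL I4 F) : Matrix I4 I4 F) = _ from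
        mem_sp_iff.1 (inv_mem hg), show adj (RingHom.id F) (Matrix.J (Fin 2) F) (klein v) = _ from klein_adj v,
      inv_inv, mul_assoc]
  · rw [Matrix.trace_mul_cycle, gl_inv_mul, one_mul, klein_trace]

theorem kmap_mul (h2 : (2 : F) ≠ 0) {g h : GL I4 F} (hh : h ∈ spGL 2 F) (v : Fin 5 → F) :
    kmap (g * h) v = kmap g (kmap h v) := by
  show coord _ = coord ((g : Matrix I4 I4 F) * klein (kmap h v) * _)
  rw [klein_kmap h2 hh, _root_.mul_inv_rev, Units.val_mul, Units.val_mul]
  simp only [mul_assoc]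

theorem kmap_one (v : Fin 5 → F) : kmap (1 : GL I4 F) v = v := by
  show coord _ = v
  rw [inv_one, Units.val_one, one_mul, mul_one, coord_klein]

theorem kmap_isom (h2 : (2 : F) ≠ 0) {g : GL I4 F} (hg : g ∈ spGL 2 F) (v : Fin 5 → F) : qk (kmap g v) = qk v := by
  have h := klein_mul_self (kmap g v)
  rw [klein_kmap h2 hg] at h
  have e : (g : Matrix I4 I4 F) * klein v * ((g⁻¹ : GL I4 F) : Matrix I4 I4 F) *
      ((g : Matrix I4 I4 F) * klein v * ((g⁻¹ : GL I4 F) : Matrix I4 I4 F)) =
      (g : Matrix I4 I4 F) * (klein v * klein v) * ((g⁻¹ : GL I4 F) : Matrix I4 I4 F) := by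
    rw [mul_assoc ((g : Matrix I4 I4 F) * klein v), ← mul_assoc ((g⁻¹ : GL I4 F) : Matrix I4 I4 F),
      ← mul_assoc ((g⁻¹ : GL I4 F) : Matrix I4 I4 F), gl_inv_mul, one_mul]
    simp only [mul_assoc]
  rw [e, klein_mul_self, mul_smul_comm, mul_one, smul_mul_assoc, gl_mul_inv] at h
  have h' := congrFun (congrFun h (.inl 0)) (.inl 0)
  simpa using h'.symm

/-- the symplectic group acting on the coordinates -/
def phi (h2 : (2 : F) ≠ 0) : spGL 2 F →* GL (Fin 5) F where
  toFun g := ⟨LinearMap.toMatrix' (kmap g.1), LinearMap.toMatrix' (kmap g⁻¹.1),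
    by
      rw [← LinearMap.toMatrix'_comp, ← LinearMap.toMatrix'_id]
      congr 1
      refine LinearMap.ext fun v => ?_
      rw [LinearMap.comp_apply, ← kmap_mul h2 (g⁻¹).2, ← Subgroup.coe_mul, mul_inv_cancel, Subgroup.coe_one, kmap_one]
      rfl,
    by
      rw [← LinearMap.toMatrix'_comp, ← LinearMap.toMatrix'_id]
      congr 1
      refine LinearMap.ext fun v => ?_
      rw [LinearMap.comp_apply, ← kmap_mul h2 g.2, ← Subgroup.coe_mul, inv_mul_cancel, Subgroup.coe_one, kmap_one]
      rfl⟩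
  map_one' := Units.ext <| by
    show LinearMap.toMatrix' (kmap (1 : GL I4 F)) = 1
    rw [← LinearMap.toMatrix'_id]
    exact congrArg _ (LinearMap.ext kmap_one)
  map_mul' g h := Units.ext <| by
    show LinearMap.toMatrix' (kmap (g.1 * h.1)) = LinearMap.toMatrix' (kmap g.1) * LinearMap.toMatrix' (kmap h.1)
    rw [← LinearMap.toMatrix'_comp]
    exact congrArg _ (LinearMap.ext fun v => kmap_mul h2 h.2 v)

theorem phi_apply (h2 : (2 : F) ≠ 0) (g : spGL 2 F) (v : Fin 5 → F) :
    (phi h2 g : Matrix (Fin 5) (Fin 5) F) *ᵥ v = kmap g.1 v :=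
  LinearMap.toMatrix'_mulVec _ _

theorem klein_phi (h2 : (2 : F) ≠ 0) (g : spGL 2 F) (v : Fin 5 → F) :
    klein ((phi h2 g : Matrix (Fin 5) (Fin 5) F) *ᵥ v) =
      (g.1 : Matrix I4 I4 F) * klein v * ((g.1⁻¹ : GL I4 F) : Matrix I4 I4 F) := by
  rw [phi_apply, klein_kmap h2 g.2]

variable [Fintype F]

theorem phi_mem_iso (h2 : (2 : F) ≠ 0) (g : spGL 2 F) : phi h2 g ∈ Cfsg.isometryGroup F qk :=
  Quad.mem_iso.2 fun v => by rw [phi_apply]; exact kmap_isom h2 g.2 v

/-- squares of isometries lie in `Ω` -/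
theorem iso_sq_mem {ι : Type} [Fintype ι] [DecidableEq ι] {Q : (ι → F) → F} (hQ : IsNondegenerateQuadraticForm Q)
    (hn : 5 ≤ Fintype.card ι) {g : GL ι F} (hg : g ∈ Cfsg.isometryGroup F Q) : g * g ∈ omegaGL Q := by
  let π := QuotientGroup.mk' (Cfsg.Omega F Q)
  have hab : ∀ a b, π a * π b = π b * π a := fun a b => by
    rw [← map_mul, ← map_mul]
    refine QuotientGroup.eq.2 ?_
    rw [show (a * b)⁻¹ * (b * a) = ⁅b⁻¹, a⁻¹⁆ by rw [commutatorElement_def]; group]
    exact Subgroup.commutator_mem_commutator (Subgroup.mem_top _) (Subgroup.mem_top _)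
  let T : Subgroup (Cfsg.isometryGroup F Q) :=
    { carrier := {x | π x * π x = 1}
      one_mem' := by simp
      mul_mem' := fun {a b} ha hb => by
        show π (a * b) * π (a * b) = 1
        rw [map_mul, mul_assoc, ← mul_assoc (π b), hab b a, mul_assoc, ← mul_assoc (π a), show π a * π a = 1 from ha,
          one_mul]
        exact hb
      inv_mem' := fun {a} ha => by
        show π a⁻¹ * π a⁻¹ = 1
        rw [map_inv, ← _root_.mul_inv_rev, show π a * π a = 1 from ha, inv_one] }
  have hle : Cfsg.isometryGroup F Q ≤ T.map (Cfsg.isometryGroup F Q).subtype := by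
    refine (Quad.iso_le_refl_closure hQ (by omega) (Or.inr (by omega))).trans ((Subgroup.closure_le _).2 ?_)
    rintro r ⟨hr, v, hv, hrv⟩
    refine ⟨⟨r, hr⟩, ?_, rfl⟩
    show π _ * π _ = 1
    rw [← map_mul]
    refine (QuotientGroup.eq_one_iff _).2 ?_
    rw [show (⟨r, hr⟩ : Cfsg.isometryGroup F Q) * ⟨r, hr⟩ = 1 from Subtype.ext (gl_ext_vec fun x => by
      rw [Subgroup.coe_mul, gl_mul_mulVec, Subgroup.coe_one, Units.val_one, one_mulVec, hrv, hrv,
        Quad.psub_left hQ, Quad.psmul_left hQ, Quad.pself hQ]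
      have e : (Q v)⁻¹ * (QuadraticMap.polar Q x v - (Q v)⁻¹ * QuadraticMap.polar Q x v * (2 * Q v)) =
          -((Q v)⁻¹ * QuadraticMap.polar Q x v) := by
        field_simp
        ring
      rw [e, neg_smul, sub_neg_eq_add, sub_add_cancel])]
    exact one_mem _
  obtain ⟨x, hx, rfl⟩ := hle hg
  have hx' : π (x * x) = 1 := by rw [map_mul]; exact hx
  exact ⟨x * x, (QuotientGroup.eq_one_iff _).1 hx', map_mul _ _ _⟩

theorem two_ne (hodd : Odd (Fintype.card F)) : (2 : F) ≠ 0 := CfsgLib.Perm.Asch.two_ne_zero_of_odd hodd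

/-- the image lies in `Ω` -/
theorem phi_mem_omega (h2 : (2 : F) ≠ 0) (g : spGL 2 F) : phi h2 g ∈ omegaGL (qk : (Fin 5 → F) → F) := by
  let M : Subgroup (GL I4 F) := ((omegaGL (qk : (Fin 5 → F) → F)).comap (phi h2)).map (spGL 2 F).subtype
  have hM : M = isoSub (sympForm 2 F) := by
    refine Symp.eq_isoSub Symp.isSymplecticForm_sympForm ?_ fun u c => ?_
    · rintro _ ⟨x, -, rfl⟩
      exact x.2
    · obtain ⟨s, hs⟩ : ∃ s : F, s + s = c := ⟨c / 2, by field_simp; ring⟩
      have hmem : ∀ d, Symp.stv Symp.isSymplecticForm_sympForm u d ∈ spGL 2 F := fun d =>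
        Symp.stv_iso Symp.isSymplecticForm_sympForm u d
      refine ⟨⟨_, hmem c⟩, ?_, rfl⟩
      show phi h2 _ ∈ omegaGL (qk : (Fin 5 → F) → F)
      rw [show (⟨_, hmem c⟩ : spGL 2 F) = ⟨_, hmem s⟩ * ⟨_, hmem s⟩ from Subtype.ext (by
        show _ = Symp.stv _ u s * Symp.stv _ u s
        rw [Symp.stv_mul, hs]), map_mul]
      exact iso_sq_mem (qk_nd h2) (by simp) (phi_mem_iso h2 _)
  have hg : g.1 ∈ M := hM ▸ g.2
  obtain ⟨x, hx, hxg⟩ := hg
  rwa [← Subtype.ext hxg]

/-- the image is `Ω` -/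
theorem phi_range (h2 : (2 : F) ≠ 0) : (phi h2).range = omegaGL (qk : (Fin 5 → F) → F) := by
  refine le_antisymm (by rintro _ ⟨g, rfl⟩; exact phi_mem_omega h2 g) ?_
  rw [Quad.omegaGL_eq (qk_nd h2) (by simp)]
  refine (Subgroup.closure_le _).2 ?_
  rintro e ⟨-, u, a, hu, hua, hE⟩
  have hN : klein u * klein u = 0 := by rw [klein_mul_self, hu, zero_smul]
  have hanti : klein u * klein a = -(klein a * klein u) := eq_neg_of_add_eq_zero_left (by
    rw [klein_anti, hua, zero_smul])
  obtain ⟨S, hS⟩ : ∃ S, S = klein a * klein u := ⟨_, rfl⟩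
  have hSS : S * S = 0 := by
    rw [hS, mul_assoc, ← mul_assoc (klein u), hanti, neg_mul, mul_assoc (klein a) (klein u), hN, mul_zero, neg_zero,
      mul_zero]
  let g : GL I4 F := ⟨1 + S, 1 - S,
    by rw [add_mul, mul_sub, mul_sub, one_mul, one_mul, mul_one, hSS]; abel,
    by rw [sub_mul, mul_add, mul_add, one_mul, one_mul, mul_one, hSS]; abel⟩
  have hg : g ∈ spGL 2 F := by
    rw [mem_sp_iff]
    show adj (RingHom.id F) (Matrix.J (Fin 2) F) (1 + S) = 1 - S
    rw [refl_J.adj_add, refl_J.adj_one, hS, refl_J.adj_mul,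
      show adj (RingHom.id F) (Matrix.J (Fin 2) F) (klein a) = _ from klein_adj a,
      show adj (RingHom.id F) (Matrix.J (Fin 2) F) (klein u) = _ from klein_adj u, hanti, sub_eq_add_neg]
  refine ⟨⟨g, hg⟩, gl_ext_vec fun x => ?_⟩
  rw [hE]
  refine klein_injective ?_
  rw [klein_phi]
  show (1 + S) * klein x * (1 - S) = _
  have hxu : klein x * klein u = QuadraticMap.polar qk x u • 1 - klein u * klein x :=
    eq_sub_of_add_eq (klein_anti x u)
  have hxa : klein x * klein a = QuadraticMap.polar qk x a • 1 - klein a * klein x :=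
    eq_sub_of_add_eq (klein_anti x a)
  have hxS : klein x * S = QuadraticMap.polar qk x a • klein u - QuadraticMap.polar qk x u • klein a + S * klein x := by
    rw [hS, ← mul_assoc, hxa, sub_mul, mul_assoc, hxu, mul_sub, mul_smul_comm, mul_one, smul_mul_assoc, one_mul,
      ← mul_assoc]
    abel
  have hSXS : S * klein x * S = (qk a * QuadraticMap.polar qk x u) • klein u := by
    rw [mul_assoc, hxS, mul_add, ← mul_assoc S S, hSS, zero_mul, add_zero, mul_sub, mul_smul_comm, mul_smul_comm]
    have e1 : S * klein u = 0 := by rw [hS, mul_assoc, hN, mul_zero]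
    have e2 : S * klein a = -(qk a • klein u) := by
      rw [hS, mul_assoc, hanti, mul_neg, ← mul_assoc, klein_mul_self, smul_mul_assoc, one_mul]
    rw [e1, e2, smul_zero, zero_sub, smul_neg, neg_neg, smul_smul, mul_comm]
  have expand : (1 + S) * klein x * (1 - S) = klein x + S * klein x - klein x * S - S * klein x * S := by
    rw [add_mul, one_mul, mul_sub, mul_one, add_mul]
    abel
  rw [expand, hSXS, hxS, sub_eq_add_neg (x + QuadraticMap.polar qk x u • a - QuadraticMap.polar qk x a • u),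
    sub_eq_add_neg (x + QuadraticMap.polar qk x u • a), klein_add, klein_add, klein_add, klein_smul, ← neg_smul, ← neg_smul,
    klein_smul, klein_smul, neg_smul, neg_smul]
  abel

/-- maximality passes back along the correspondence -/
theorem maximal_transfer (h2 : (2 : F) ≠ 0) {H5 : Subgroup (GL (Fin 5) F)}
    (h5 : IsMaximalIn (omegaGL (qk : (Fin 5 → F) → F)) (H5 ⊓ omegaGL qk)) {H : Subgroup (GL I4 F)}
    (hH : ∀ g : spGL 2 F, g.1 ∈ H ↔ phi h2 g ∈ H5) : IsMaximalIn (spGL 2 F) (H ⊓ spGL 2 F) := by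
  have hr := phi_range h2
  refine ⟨lt_of_le_of_ne inf_le_right fun e => h5.1.ne (le_antisymm inf_le_right fun y hy => ⟨?_, hy⟩), fun M hHM hM => ?_⟩
  · obtain ⟨g, rfl⟩ : y ∈ (phi h2).range := hr ▸ hy
    exact (hH g).1 (e.symm.le g.2).1
  obtain ⟨M5, hM5⟩ : ∃ M5, M5 = (M.comap (spGL 2 F).subtype).map (phi h2) := ⟨_, rfl⟩
  have hker : ∀ g : spGL 2 F, phi h2 g = 1 → g.1 ∈ M := fun g hg =>
    hHM ⟨(hH g).2 (hg ▸ one_mem H5), g.2⟩
  have hback : ∀ g : spGL 2 F, phi h2 g ∈ M5 → g.1 ∈ M := by
    intro g hg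
    rw [hM5] at hg
    obtain ⟨x, hx, hxg⟩ := hg
    have h1 := M.mul_mem hx (hker (x⁻¹ * g) (by rw [map_mul, map_inv, hxg, inv_mul_cancel]))
    rwa [Subgroup.coe_subtype, ← Subgroup.coe_mul, mul_inv_cancel_left] at h1
  have hlo : H5 ⊓ omegaGL (qk : (Fin 5 → F) → F) ≤ M5 := fun y hy => by
    obtain ⟨g, rfl⟩ : y ∈ (phi h2).range := hr ▸ hy.2
    rw [hM5]
    exact ⟨g, hHM ⟨(hH g).2 hy.1, g.2⟩, rfl⟩
  have hhi : M5 ≤ omegaGL (qk : (Fin 5 → F) → F) := by
    rw [hM5, ← hr]
    rintro _ ⟨g, -, rfl⟩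
    exact ⟨g, rfl⟩
  rcases h5.2 M5 hlo hhi with h | h
  · refine Or.inl (le_antisymm (fun g hg => ⟨?_, hM hg⟩) hHM)
    refine (hH ⟨g, hM hg⟩).2 ?_
    have : phi h2 ⟨g, hM hg⟩ ∈ M5 := hM5 ▸ ⟨⟨g, hM hg⟩, hg, rfl⟩
    rw [h] at this
    exact this.1
  · refine Or.inr (le_antisymm hM fun g hg => hback ⟨g, hg⟩ ?_)
    rw [h]
    exact phi_mem_omega h2 _

end CfsgLib.Perm.Trans.KleinFour
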