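import Cfsg.Agent.Lib.Perm.Trans.KleinFour.Basic
import Cfsg.Agent.Lib.Perm.Trans.QuadPlaneFive

/-!
# Stabilisers of skew square roots of scalars in the four-dimensional symplectic groups

A skew matrix squaring to a nonzero scalar gives a nondegenerate plane of the Klein space, the vectors anticommuting
with it; its stabiliser up to sign corresponds to the stabiliser of this plane.
-/

set_option autoImplicit false
set_option linter.all false

namespace CfsgLib.Perm.Trans.KleinFour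

open scoped Matrix
open Matrix Cfsg Cfsg.Geo CfsgLib.Perm.Asch CfsgLib.Perm.Trans
open CfsgLib.Perm.Trans.Quad (NdOn)

variable {F : Type*} [Field F] [Fintype F]

/-- only scalars commute with all the Klein matrices -/
theorem scalar_of_comm_klein (h2 : (2 : F) ≠ 0) {M : Matrix I4 I4 F} (h : ∀ v, M * klein v = klein v * M) :
    ∃ c : F, M = c • 1 := by
  have e0 := fun i j => congrFun (congrFun (h ![1, 0, 0, 0, 0]) i) j
  have e1 := fun i j => congrFun (congrFun (h ![0, 1, 0, 0, 0]) i) j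
  have e2 := fun i j => congrFun (congrFun (h ![0, 0, 1, 0, 0]) i) j
  have e3 := fun i j => congrFun (congrFun (h ![0, 0, 0, 1, 0]) i) j
  simp only [klein, Matrix.mul_apply, Fintype.sum_sum_type, Fin.sum_univ_two] at e0 e1 e2 e3
  have a1 := e0 (.inl 0) (.inl 1)
  have a2 := e0 (.inl 1) (.inl 0)
  have a3 := e0 (.inl 0) (.inr 1)
  have a4 := e0 (.inl 1) (.inr 0)
  have a5 := e0 (.inr 0) (.inl 1)
  have a6 := e0 (.inr 1) (.inl 0)
  have a7 := e0 (.inr 0) (.inr 1)
  have a8 := e0 (.inr 1) (.inr 0)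
  have b1 := e1 (.inl 0) (.inl 1)
  have b2 := e1 (.inr 1) (.inr 0)
  have b3 := e1 (.inr 0) (.inl 1)
  have b4 := e1 (.inl 0) (.inr 1)
  have c1 := e2 (.inr 1) (.inl 0)
  have c2 := e2 (.inl 1) (.inr 0)
  have d1 := e3 (.inl 0) (.inr 1)
  simp at a1 a2 a3 a4 a5 a6 a7 a8 b1 b2 b3 b4 c1 c2 d1
  refine ⟨M (.inl 0) (.inl 0), ?_⟩
  ext i j
  rcases i with i | i <;> rcases j with j | j <;> fin_cases i <;> fin_cases j <;> simp <;>
    first
    | linear_combination b3 | linear_combination b4 | linear_combination c1 | linear_combination c2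
    | linear_combination -b3 | linear_combination -b4 | linear_combination -c1 | linear_combination -c2
    | linear_combination b1 | linear_combination -b1 | linear_combination d1 | linear_combination -d1
    | linear_combination b2 - d1 | linear_combination -b2 + d1 | linear_combination b2 + d1
    | linear_combination -b2 - d1
    | (refine mul_left_cancel₀ h2 ?_; first
        | linear_combination a1 | linear_combination a2 | linear_combination a3 | linear_combination a4
        | linear_combination a5 | linear_combination a6 | linear_combination a7 | linear_combination a8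
        | linear_combination -a1 | linear_combination -a2 | linear_combination -a3 | linear_combination -a4
        | linear_combination -a5 | linear_combination -a6 | linear_combination -a7 | linear_combination -a8)

/-- self-adjoint matrices are Klein matrices up to scalars -/
theorem exists_klein_scalar (h2 : (2 : F) ≠ 0) {N : Matrix I4 I4 F} (hN : ad N = N) :
    ∃ (n : Fin 5 → F) (t : F), N = klein n + t • 1 := by
  obtain ⟨t, ht⟩ : ∃ t : F, 2 * (2 * t) = N.trace := ⟨N.trace / (2 * 2), by field_simp⟩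
  refine ⟨coord (N - t • 1), t, ?_⟩
  rw [klein_coord h2 ?_ ?_, sub_add_cancel]
  · show adj (RingHom.id F) (Matrix.J (Fin 2) F) (N - t • 1) = _
    rw [refl_J.adj_sub, refl_J.adj_smul, refl_J.adj_one, RingHom.id_apply,
      show adj (RingHom.id F) (Matrix.J (Fin 2) F) N = _ from hN]
  · rw [Matrix.trace_sub, Matrix.trace_smul, Matrix.trace_one, ← ht]
    simp [I4]
    ring

section

variable {E : Matrix I4 I4 F} {d : F}

/-- two orthogonal anisotropic vectors anticommuting with `E` determine it up to a scalar -/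
theorem skew_eq_product (h2 : (2 : F) ≠ 0) (hd : d ≠ 0) (hE : E * E = d • 1) (had : ad E = -E)
    {w₁ w₂ : Fin 5 → F} (h₁ : klein w₁ * E = -(E * klein w₁)) (h₂ : klein w₂ * E = -(E * klein w₂))
    (hq₁ : qk w₁ ≠ 0) (hq₂ : qk w₂ ≠ 0) (hp : QuadraticMap.polar qk w₁ w₂ = 0) :
    ∃ t : F, t ≠ 0 ∧ E = t • (klein w₂ * klein w₁) := by
  have hQ := qk_nd (F := F) h2
  obtain ⟨A, hA⟩ : ∃ A, A = klein w₁ := ⟨_, rfl⟩
  obtain ⟨B, hB⟩ : ∃ B, B = klein w₂ := ⟨_, rfl⟩
  rw [← hA] at h₁ ⊢
  rw [← hB] at h₂ ⊢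
  have hAA : A * A = qk w₁ • 1 := hA ▸ klein_mul_self w₁
  have hBB : B * B = qk w₂ • 1 := hB ▸ klein_mul_self w₂
  have hAB : A * B = -(B * A) := eq_neg_of_add_eq_zero_left (by rw [hA, hB, klein_anti, hp, zero_smul])
  have h₁' : E * A = -(A * E) := by rw [h₁, neg_neg]
  have h₂' : E * B = -(B * E) := by rw [h₂, neg_neg]
  have hBA : B * A = -(A * B) := by rw [hAB, neg_neg]
  obtain ⟨n, t, hN⟩ := exists_klein_scalar h2 (N := E * A * B) (by
    show adj (RingHom.id F) (Matrix.J (Fin 2) F) (E * A * B) = _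
    rw [refl_J.adj_mul, refl_J.adj_mul, show adj (RingHom.id F) (Matrix.J (Fin 2) F) E = _ from had, hA, hB,
      show adj (RingHom.id F) (Matrix.J (Fin 2) F) (klein w₁) = _ from klein_adj w₁,
      show adj (RingHom.id F) (Matrix.J (Fin 2) F) (klein w₂) = _ from klein_adj w₂, ← hA, ← hB,
      mul_neg A E, mul_neg B, ← mul_assoc B A E, hBA, neg_mul, neg_neg, mul_assoc A B E, h₂, mul_neg, ← mul_assoc,
      h₁', neg_mul])
  have hcomm : ∀ (w : Fin 5 → F) (C : Matrix I4 I4 F), klein w = C → qk w ≠ 0 → E * A * B * C = C * (E * A * B) →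
      ∃ c : F, n = c • w := by
    intro w C hC hq h
    rw [hN, add_mul, mul_add, smul_mul_assoc, one_mul, mul_smul_comm, mul_one, add_left_inj, ← hC] at h
    have h3 : (2 : F) • (klein n * klein w) = QuadraticMap.polar qk n w • (1 : Matrix I4 I4 F) := by
      rw [two_smul]
      conv_lhs => arg 2; rw [h]
      exact klein_anti n w
    refine ⟨QuadraticMap.polar qk n w / (2 * qk w), klein_injective ?_⟩
    have h4 := congrArg (· * klein w) h3
    simp only [smul_mul_assoc, one_mul, mul_assoc, klein_mul_self, mul_smul_comm, mul_one, smul_smul] at h4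
    rw [klein_smul, div_eq_inv_mul, mul_smul, ← h4, smul_smul, inv_mul_cancel₀ (mul_ne_zero h2 hq), one_smul]
  obtain ⟨c₁, hc₁⟩ := hcomm w₁ A hA.symm hq₁ (by
    rw [mul_assoc, hBA, mul_neg, ← mul_assoc A (E * A) B, ← mul_assoc A E A,
      show A * E = -(E * A) by rw [h₁], neg_mul, neg_mul, ← mul_assoc (E * A) A B]
    <;> simp only [mul_assoc])
  obtain ⟨c₂, hc₂⟩ := hcomm w₂ B hB.symm hq₂ (by
    rw [← mul_assoc B, ← mul_assoc B, show B * E = -(E * B) by rw [h₂], neg_mul, neg_mul, mul_assoc E B A, hBA,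
      mul_neg, neg_mul, neg_neg, ← mul_assoc E A B])
  have hn : n = 0 := by
    have h3 := congrArg (fun x => QuadraticMap.polar qk x w₁) (hc₁.symm.trans hc₂)
    simp only [Quad.psmul_left hQ, Quad.pself hQ, Quad.pcomm w₂ w₁, hp, mul_zero] at h3
    rw [hc₁, (mul_eq_zero.1 h3).resolve_right (mul_ne_zero h2 hq₁), zero_smul]
  rw [hn, klein_zero, zero_add] at hN
  have hkey : (qk w₁ * qk w₂) • E = t • (B * A) := by
    have h3 := congrArg (· * (B * A)) hN
    simp only [smul_mul_assoc, one_mul] at h3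
    rw [← h3, mul_assoc (E * A) B, ← mul_assoc B B A, hBB, smul_mul_assoc, one_mul, mul_smul_comm, mul_assoc E A A, hAA,
      mul_smul_comm, mul_one, smul_smul, mul_comm]
  have ht : t ≠ 0 := fun h0 => by
    rw [h0, zero_smul, smul_eq_zero, or_iff_right (mul_ne_zero hq₁ hq₂)] at hkey
    rw [hkey, mul_zero] at hE
    exact hd (by simpa using (congrFun (congrFun hE (.inl 0)) (.inl 0)).symm)
  exact ⟨t / (qk w₁ * qk w₂), div_ne_zero ht (mul_ne_zero hq₁ hq₂), by
    rw [div_eq_inv_mul, mul_smul, ← hkey, smul_smul, inv_mul_cancel₀ (mul_ne_zero hq₁ hq₂), one_smul]⟩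

/-- a skew square root of a scalar gives a plane -/
theorem exists_skew_plane (h2 : (2 : F) ≠ 0) (hd : d ≠ 0) (hE : E * E = d • 1) (had : ad E = -E) :
    ∃ W : Submodule F (Fin 5 → F), NdOn qk W ∧ Module.finrank F W = 2 ∧ ∀ g : spGL 2 F,
      (phi h2 g ∈ subspaceStabilizer W ↔ ∃ c : F, (c = 1 ∨ c = -1) ∧
        (g.1 : Matrix I4 I4 F) * E * ((g.1⁻¹ : GL I4 F) : Matrix I4 I4 F) = c • E) := by
  classical
  have hQ : IsNondegenerateQuadraticForm (qk : (Fin 5 → F) → F) := qk_nd h2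
  have hE0 : E ≠ 0 := fun h => hd (by
    rw [h, mul_zero] at hE
    simpa using (congrFun (congrFun hE (.inl 0)) (.inl 0)).symm)
  let anti : (Fin 5 → F) →ₗ[F] Matrix I4 I4 F :=
    { toFun := fun v => klein v * E + E * klein v
      map_add' := fun u v => by rw [klein_add, add_mul, mul_add]; abel
      map_smul' := fun c v => by rw [klein_smul, smul_mul_assoc, mul_smul_comm, ← smul_add, RingHom.id_apply] }
  obtain ⟨W, hW⟩ : ∃ W, W = LinearMap.ker anti := ⟨_, rfl⟩
  have hWm : ∀ v, v ∈ W ↔ klein v * E = -(E * klein v) := fun v => by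
    rw [hW, LinearMap.mem_ker]
    exact add_eq_zero_iff_eq_neg
  -- the two eigenspaces
  have hsplit : ∀ v, ∃ a b, v = a + b ∧ a ∈ W ∧ klein b * E = E * klein b := by
    intro v
    obtain ⟨X', hX'⟩ : ∃ X', X' = d⁻¹ • (E * klein v * E) := ⟨_, rfl⟩
    obtain ⟨u, hu⟩ : ∃ u, klein u = X' := ⟨coord X', klein_coord h2 (by
      show adj (RingHom.id F) (Matrix.J (Fin 2) F) X' = X'
      rw [hX', refl_J.adj_smul, refl_J.adj_mul, refl_J.adj_mul,
        show adj (RingHom.id F) (Matrix.J (Fin 2) F) E = _ from had,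
        show adj (RingHom.id F) (Matrix.J (Fin 2) F) (klein v) = _ from klein_adj v, RingHom.id_apply]
      simp [mul_assoc]) (by
      rw [hX', Matrix.trace_smul, Matrix.trace_mul_cycle, hE, smul_mul_assoc, one_mul, Matrix.trace_smul, klein_trace,
        smul_zero, smul_zero])⟩
    have e1 : X' * E = E * klein v := by
      rw [hX', smul_mul_assoc, mul_assoc (E * klein v), hE, mul_smul_comm, mul_one, smul_smul, inv_mul_cancel₀ hd,
        one_smul]
    have e2 : E * X' = klein v * E := by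
      rw [hX', mul_smul_comm, ← mul_assoc, ← mul_assoc, hE, smul_mul_assoc, one_mul, smul_mul_assoc, smul_smul,
        inv_mul_cancel₀ hd, one_smul]
    have hh : (2 : F)⁻¹ + 2⁻¹ = 1 := by field_simp; norm_num
    refine ⟨(2 : F)⁻¹ • (v - u), (2 : F)⁻¹ • (v + u), ?_, (hWm _).2 ?_, ?_⟩
    · rw [← smul_add, show v - u + (v + u) = v + v by abel, smul_add, ← add_smul, hh, one_smul]
    · have hs : klein (v - u) = klein v - X' := by
        rw [sub_eq_add_neg, klein_add, ← neg_one_smul F u, klein_smul, hu, neg_one_smul, ← sub_eq_add_neg]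
      rw [klein_smul, hs, smul_mul_assoc, mul_smul_comm, ← smul_neg, sub_mul, mul_sub, e1, e2, neg_sub]
    · rw [klein_smul, klein_add, hu, smul_mul_assoc, mul_smul_comm, add_mul, mul_add, e1, e2, add_comm]
  have hperp : ∀ w ∈ W, ∀ b, klein b * E = E * klein b → QuadraticMap.polar qk w b = 0 := by
    intro w hw b hb
    have h := (hWm w).1 hw
    have h1 : (klein w * klein b + klein b * klein w) * E = -(E * (klein w * klein b + klein b * klein w)) := by
      rw [add_mul, mul_add, mul_assoc, hb, ← mul_assoc, h, mul_assoc (klein b), h, mul_neg, ← mul_assoc (klein b) E,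
        hb, neg_add]
      simp only [mul_assoc, neg_mul]
    rw [klein_anti, smul_mul_assoc, one_mul, mul_smul_comm, mul_one, eq_neg_iff_add_eq_zero, ← add_smul,
      smul_eq_zero, or_iff_left hE0, ← two_mul, mul_eq_zero, or_iff_right h2] at h1
    exact h1
  have hWnd : NdOn qk W := by
    intro w hw hw0
    obtain ⟨x, hx⟩ := (hQ.nondegenerate w hw0).2
    obtain ⟨a, b, rfl, ha, hb⟩ := hsplit x
    rw [Quad.padd_right hQ, hperp w hw b hb, add_zero] at hx
    exact ⟨⟨a, ha, by rw [Quad.pcomm]; exact hx⟩, a, ha, hx⟩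
  -- two orthogonal anisotropic vectors in the plane
  obtain ⟨w₁, hw₁, hq₁⟩ := Quad.exists_nonsingular hQ hWnd (fun h0 => by
    obtain ⟨c, hc⟩ := scalar_of_comm_klein h2 (M := E) (fun v => by
      obtain ⟨a, b, rfl, ha, hb⟩ := hsplit v
      rw [h0, Submodule.mem_bot] at ha
      rw [ha, zero_add, hb])
    have h1 : ad E = E := by
      show adj (RingHom.id F) (Matrix.J (Fin 2) F) E = E
      rw [hc, refl_J.adj_smul, refl_J.adj_one, RingHom.id_apply]
    rw [had, neg_eq_iff_add_eq_zero, ← two_smul F E] at h1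
    exact hE0 ((smul_eq_zero.1 h1).resolve_left h2))
  obtain ⟨w₂, hw₂, hq₂⟩ := Quad.exists_nonsingular hQ (Quad.nd_inf_perp hQ hWnd hw₁ h2 hq₁) (fun h0 => by
    obtain ⟨A, hA⟩ : ∃ A, A = klein w₁ := ⟨_, rfl⟩
    have hAE : A * E = -(E * A) := hA ▸ (hWm w₁).1 hw₁
    have hAA : A * A = qk w₁ • 1 := hA ▸ klein_mul_self w₁
    have hcom : ∀ x, QuadraticMap.polar qk x w₁ = 0 → klein x * E = E * klein x := by
      intro x hx
      obtain ⟨a, b, rfl, ha, hb⟩ := hsplit x
      have h1 : a ∈ W ⊓ LinearMap.ker (Quad.pfl hQ w₁) := ⟨ha, by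
        show QuadraticMap.polar qk a w₁ = 0
        rwa [Quad.padd_left hQ, Quad.pcomm b w₁, hperp w₁ hw₁ b hb, add_zero] at hx⟩
      rw [h0, Submodule.mem_bot] at h1
      rw [h1, zero_add, hb]
    obtain ⟨n, t, hN⟩ := exists_klein_scalar h2 (N := A * E) (by
      show adj (RingHom.id F) (Matrix.J (Fin 2) F) (A * E) = _
      rw [refl_J.adj_mul, show adj (RingHom.id F) (Matrix.J (Fin 2) F) E = _ from had, hA,
        show adj (RingHom.id F) (Matrix.J (Fin 2) F) (klein w₁) = _ from klein_adj w₁, ← hA, neg_mul, hAE])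
    have hA0 : A ≠ 0 := fun h => hq₁ (by
      rw [h, mul_zero] at hAA
      simpa using (congrFun (congrFun hAA (.inl 0)) (.inl 0)).symm)
    have h1 : QuadraticMap.polar qk n w₁ • (1 : Matrix I4 I4 F) + (2 * t) • A = 0 := by
      have h3 : A * E * A + A * (A * E) = 0 := by
        rw [mul_assoc A E A, show E * A = -(A * E) by rw [hAE, neg_neg], mul_neg, neg_add_cancel]
      rw [← klein_anti, ← hA, mul_comm 2 t, mul_smul, two_smul, smul_add, ← h3, hN, add_mul, mul_add, smul_mul_assoc,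
        one_mul, mul_smul_comm, mul_one]
      abel
    have hn1 : QuadraticMap.polar qk n w₁ = 0 := by
      have h3 := congrArg Matrix.trace h1
      rw [Matrix.trace_add, Matrix.trace_smul, Matrix.trace_smul, Matrix.trace_one, hA, klein_trace, smul_zero, add_zero,
        Matrix.trace_zero] at h3
      have h4 : 2 * (2 * QuadraticMap.polar qk n w₁) = 0 := by
        rw [← h3]; simp [I4]; ring
      exact (mul_eq_zero.1 ((mul_eq_zero.1 h4).resolve_left h2)).resolve_left h2
    have ht : t = 0 := by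
      rw [hn1, zero_smul, zero_add, smul_eq_zero, or_iff_left hA0, mul_eq_zero, or_iff_right h2] at h1
      exact h1
    rw [ht, zero_smul, add_zero] at hN
    have hn : n = 0 := by
      by_contra hne
      obtain ⟨x, hx⟩ := (hQ.nondegenerate n hne).2
      obtain ⟨s, hs⟩ : ∃ s, s = QuadraticMap.polar qk x w₁ / (2 * qk w₁) := ⟨_, rfl⟩
      obtain ⟨y, hy⟩ : ∃ y, y = x - s • w₁ := ⟨_, rfl⟩
      have hyw : QuadraticMap.polar qk y w₁ = 0 := by
        rw [hy, Quad.psub_left hQ, Quad.psmul_left hQ, Quad.pself hQ, hs, div_mul_cancel₀ _ (mul_ne_zero h2 hq₁),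
          sub_self]
      have hAY : A * klein y + klein y * A = 0 := by
        rw [hA, klein_anti, Quad.pcomm, hyw, zero_smul]
      have h3 : QuadraticMap.polar qk n y = 0 := by
        have h4 : klein n * klein y + klein y * klein n = 0 := by
          rw [← hN, mul_assoc, ← hcom y hyw, ← mul_assoc, ← mul_assoc (klein y), ← add_mul, hAY, zero_mul]
        rw [klein_anti, smul_eq_zero] at h4
        exact h4.resolve_right one_ne_zero
      refine hx ?_
      rw [show x = y + s • w₁ by rw [hy, sub_add_cancel], Quad.padd_right hQ, Quad.psmul_right hQ, h3, hn1]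
      ring
    rw [hn, klein_zero] at hN
    have h3 := congrArg (A * ·) hN
    simp only [← mul_assoc, hAA, smul_mul_assoc, one_mul, mul_zero, smul_eq_zero] at h3
    exact h3.elim hq₁ hE0)
  obtain ⟨hw₂W, hw₂w₁⟩ := Submodule.mem_inf.1 hw₂
  replace hw₂w₁ : QuadraticMap.polar qk w₂ w₁ = 0 := hw₂w₁
  have hp : QuadraticMap.polar qk w₁ w₂ = 0 := by rw [Quad.pcomm, hw₂w₁]
  obtain ⟨t, ht, hEt⟩ := skew_eq_product h2 hd hE had ((hWm w₁).1 hw₁) ((hWm w₂).1 hw₂W) hq₁ hq₂ hp
  -- the plane is spanned by the two vectors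
  have hle : W ≤ Submodule.span F (Set.range ![w₁, w₂]) := by
    intro w hw
    obtain ⟨a, ha⟩ : ∃ a, a = QuadraticMap.polar qk w w₁ / (2 * qk w₁) := ⟨_, rfl⟩
    obtain ⟨b, hb⟩ : ∃ b, b = QuadraticMap.polar qk w w₂ / (2 * qk w₂) := ⟨_, rfl⟩
    obtain ⟨r, hr⟩ : ∃ r, r = w - a • w₁ - b • w₂ := ⟨_, rfl⟩
    have hrW : r ∈ W := hr ▸ W.sub_mem (W.sub_mem hw (W.smul_mem _ hw₁)) (W.smul_mem _ hw₂W)
    have hr1 : QuadraticMap.polar qk r w₁ = 0 := by
      rw [hr, Quad.psub_left hQ, Quad.psub_left hQ, Quad.psmul_left hQ, Quad.psmul_left hQ, Quad.pself hQ, hw₂w₁, ha,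
        div_mul_cancel₀ _ (mul_ne_zero h2 hq₁)]
      ring
    have hr2 : QuadraticMap.polar qk r w₂ = 0 := by
      rw [hr, Quad.psub_left hQ, Quad.psub_left hQ, Quad.psmul_left hQ, Quad.psmul_left hQ, Quad.pself hQ, hp, hb,
        div_mul_cancel₀ _ (mul_ne_zero h2 hq₂)]
      ring
    have hanti : ∀ x, QuadraticMap.polar qk r x = 0 → klein r * klein x = -(klein x * klein r) := fun x hx =>
      eq_neg_of_add_eq_zero_left (by rw [klein_anti, hx, zero_smul])
    have hcomm : klein r * E = E * klein r := by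
      rw [hEt, mul_smul_comm, smul_mul_assoc, ← mul_assoc, hanti w₂ hr2, neg_mul, mul_assoc, hanti w₁ hr1, mul_neg,
        neg_neg, mul_assoc]
    have h1 := (hWm r).1 hrW
    rw [← hcomm, eq_neg_iff_add_eq_zero, ← two_smul F, smul_eq_zero, or_iff_right h2] at h1
    have h3 := congrArg (· * E) h1
    simp only [mul_assoc, hE, zero_mul, mul_smul_comm, mul_one, smul_eq_zero, or_iff_right hd] at h3
    have hr0 : r = 0 := klein_injective (h3.trans klein_zero.symm)
    rw [hr, sub_sub, sub_eq_zero] at hr0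
    rw [hr0]
    exact Submodule.add_mem _ (Submodule.smul_mem _ _ (Submodule.subset_span ⟨0, rfl⟩))
      (Submodule.smul_mem _ _ (Submodule.subset_span ⟨1, rfl⟩))
  have hli : LinearIndependent F ![w₁, w₂] := by
    refine LinearIndependent.pair_iff.2 fun r s hrs => ?_
    have e1 := congrArg (fun z => QuadraticMap.polar qk z w₁) hrs
    have e2 := congrArg (fun z => QuadraticMap.polar qk z w₂) hrs
    simp only [Quad.padd_left hQ, Quad.psmul_left hQ, Quad.pzero_left hQ, Quad.pself hQ, hp, hw₂w₁, mul_zero,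
      zero_add, add_zero] at e1 e2
    exact ⟨(mul_eq_zero.1 e1).resolve_right (mul_ne_zero h2 hq₁), (mul_eq_zero.1 e2).resolve_right (mul_ne_zero h2 hq₂)⟩
  have hWeq : W = Submodule.span F (Set.range ![w₁, w₂]) := le_antisymm hle (Submodule.span_le.2 (by
    rintro _ ⟨i, rfl⟩
    fin_cases i <;> simp [hw₁, hw₂W]))
  refine ⟨W, hWnd, by rw [hWeq, finrank_span_eq_card hli, Fintype.card_fin], fun g => ⟨fun hg => ?_, ?_⟩⟩
  · have hmv : ∀ w ∈ W, klein ((phi h2 g : Matrix (Fin 5) (Fin 5) F) *ᵥ w) * E =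
        -(E * klein ((phi h2 g : Matrix (Fin 5) (Fin 5) F) *ᵥ w)) := fun w hw =>
      (hWm _).1 ((mem_subspaceStabilizer_iff.1 hg w).1 hw)
    obtain ⟨t', ht', hEt'⟩ := skew_eq_product h2 hd hE had (hmv w₁ hw₁) (hmv w₂ hw₂W)
      (by rw [phi_apply, kmap_isom h2 g.2]; exact hq₁) (by rw [phi_apply, kmap_isom h2 g.2]; exact hq₂)
      (by rw [Quad.iso_pol (phi_mem_iso h2 g), hp])
    obtain ⟨G, hG⟩ : ∃ G, G = (g.1 : Matrix I4 I4 F) := ⟨_, rfl⟩
    obtain ⟨G', hG'⟩ : ∃ G', G' = ((g.1⁻¹ : GL I4 F) : Matrix I4 I4 F) := ⟨_, rfl⟩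
    have hGG : G' * G = 1 := by rw [hG, hG', gl_inv_mul]
    have hGG' : G * G' = 1 := by rw [hG, hG', gl_mul_inv]
    rw [klein_phi, klein_phi, ← hG, ← hG'] at hEt'
    obtain ⟨P, hP⟩ : ∃ P, P = klein w₂ * klein w₁ := ⟨_, rfl⟩
    rw [← hP] at hEt
    have hE' : E = t' • (G * P * G') := by
      rw [hEt', hP]
      congr 1
      simp only [mul_assoc]
      rw [← mul_assoc G' G, hGG, one_mul]
    obtain ⟨c, hc⟩ : ∃ c, c = t / t' := ⟨_, rfl⟩
    have hconj : G * E * G' = c • E := by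
      conv_lhs => rw [hEt]
      conv_rhs => rw [hE', hc, smul_smul, div_mul_cancel₀ _ ht']
      rw [mul_smul_comm, smul_mul_assoc]
    refine ⟨c, mul_self_eq_one_iff.1 ?_, by rw [← hG, ← hG']; exact hconj⟩
    have h1 : (c • E) * (c • E) = d • 1 := by
      rw [← hconj]
      simp only [mul_assoc]
      rw [← mul_assoc G' G, hGG, one_mul, ← mul_assoc E E, hE, smul_mul_assoc, one_mul, mul_smul_comm, hGG']
    rw [smul_mul_assoc, mul_smul_comm, smul_smul, hE, smul_smul] at h1
    have h3 : c * c * d = d := by simpa using congrFun (congrFun h1 (.inl 0)) (.inl 0)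
    exact mul_right_cancel₀ hd (by rw [h3, one_mul])
  · rintro ⟨c, hc, hconj⟩
    refine Quad.mem_stab_of_maps fun w hw => (hWm _).2 ?_
    obtain ⟨G, hG⟩ : ∃ G, G = (g.1 : Matrix I4 I4 F) := ⟨_, rfl⟩
    obtain ⟨G', hG'⟩ : ∃ G', G' = ((g.1⁻¹ : GL I4 F) : Matrix I4 I4 F) := ⟨_, rfl⟩
    have hGG : G' * G = 1 := by rw [hG, hG', gl_inv_mul]
    rw [← hG, ← hG'] at hconj
    rw [klein_phi, ← hG, ← hG']
    have hc2 : c * c = 1 := by rcases hc with rfl | rfl <;> ring
    have hE' : E = c • (G * E * G') := by rw [hconj, smul_smul, hc2, one_smul]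
    conv_lhs => rw [hE']
    conv_rhs => rw [hE']
    rw [mul_smul_comm, smul_mul_assoc, ← smul_neg]
    congr 1
    simp only [mul_assoc]
    rw [← mul_assoc G' G, hGG, one_mul, ← mul_assoc G' G, hGG, one_mul, ← mul_assoc (klein w) E, (hWm w).1 hw]
    simp only [neg_mul, mul_neg, mul_assoc]

/-- stabilisers up to sign of skew square roots of scalars are maximal -/
theorem skew_stabilizer_maximal (h2 : (2 : F) ≠ 0) (hq : 5 ≤ Fintype.card F) (hd : d ≠ 0) (hE : E * E = d • 1)
    (had : ad E = -E) {H : Subgroup (GL I4 F)}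
    (hH : ∀ g ∈ spGL 2 F, g ∈ H ↔ ∃ c : F, (c = 1 ∨ c = -1) ∧
      (g : Matrix I4 I4 F) * E * ((g⁻¹ : GL I4 F) : Matrix I4 I4 F) = c • E) :
    IsMaximalIn (spGL 2 F) (H ⊓ spGL 2 F) := by
  obtain ⟨W, hW, hW2, hiff⟩ := exists_skew_plane h2 hd hE had
  exact maximal_transfer h2 (Quad.plane_stabilizer_maximal_five (qk_nd h2) h2 (by simp) hq hW hW2)
    fun g => (hH g.1 g.2).trans (hiff g).symm

end

theorem ad_of_skew {E : Matrix I4 I4 F} (h : ∀ u v, sympForm 2 F (E *ᵥ u) v = -sympForm 2 F u (E *ᵥ v)) :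
    ad E = -E :=
  refl_J.adj_eq_of_forall fun u v => by
    have h1 := h u v
    rw [sympForm_eq] at h1
    rw [h1, neg_mulVec, ← neg_one_smul F (E *ᵥ v), ← sympForm_eq,
      Symp.isSymplecticForm_sympForm.bilinear.smul_right, neg_one_mul]

/-- stabilisers of pairs of complementary totally isotropic planes are maximal -/
theorem isotropic_pair_maximal (hodd : Odd (Fintype.card F)) (hq : 5 ≤ Fintype.card F)
    {D : Fin 2 → Submodule F (I4 → F)} (hD : IsMDecomposition 2 D)
    (hts : ∀ i, IsTotallySingularFor (sympForm 2 F) (D i)) :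
    IsMaximalIn (spGL 2 F) (decompositionStabilizer D ⊓ spGL 2 F) := by
  have h2 := two_ne hodd
  have hs := Symp.isSymplecticForm_sympForm (m := 2) (F := F)
  have hcompl : IsCompl (D 0) (D 1) := by
    constructor
    · exact hD.indep.pairwiseDisjoint (show (0 : Fin 2) ≠ 1 by decide)
    · refine codisjoint_iff.2 (eq_top_iff.2 ?_)
      rw [← hD.iSup_eq_top, iSup_le_iff]
      intro i
      fin_cases i
      exacts [le_sup_left, le_sup_right]
  have hsplit : ∀ u, ∃ a ∈ D 0, ∃ b ∈ D 1, a + b = u := fun u =>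
    Submodule.mem_sup.1 (hcompl.sup_eq_top ▸ Submodule.mem_top)
  obtain ⟨L, hL⟩ : ∃ L : (I4 → F) →ₗ[F] (I4 → F), L = LinearMap.ofIsCompl hcompl (D 0).subtype (-(D 1).subtype) :=
    ⟨_, rfl⟩
  have hL0 : ∀ x ∈ D 0, L x = x := fun x hx => by
    rw [hL]; exact LinearMap.ofIsCompl_left_apply hcompl ⟨x, hx⟩
  have hL1 : ∀ x ∈ D 1, L x = -x := fun x hx => by
    rw [hL]; exact LinearMap.ofIsCompl_right_apply hcompl ⟨x, hx⟩
  obtain ⟨E, hEdef⟩ : ∃ E, E = LinearMap.toMatrix' L := ⟨_, rfl⟩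
  have hEv : ∀ x, E *ᵥ x = L x := fun x => by rw [hEdef, LinearMap.toMatrix'_mulVec]
  have hmem0 : ∀ x, E *ᵥ x = x → x ∈ D 0 := fun x hx => by
    obtain ⟨a, ha, b, hb, rfl⟩ := hsplit x
    rw [hEv, map_add, hL0 a ha, hL1 b hb, add_right_inj, neg_eq_iff_add_eq_zero, ← two_smul F b, smul_eq_zero,
      or_iff_right h2] at hx
    rw [hx, add_zero]; exact ha
  have hmem1 : ∀ x, E *ᵥ x = -x → x ∈ D 1 := fun x hx => by
    obtain ⟨a, ha, b, hb, rfl⟩ := hsplit x
    rw [hEv, map_add, hL0 a ha, hL1 b hb, neg_add, add_left_inj, eq_neg_iff_add_eq_zero, ← two_smul F a, smul_eq_zero,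
      or_iff_right h2] at hx
    rw [hx, zero_add]; exact hb
  refine skew_stabilizer_maximal h2 hq (E := E) (d := 1) one_ne_zero (Matrix.ext_iff_mulVec.2 fun x => ?_)
    (ad_of_skew fun u v => ?_) fun g _ => ⟨?_, ?_⟩
  · obtain ⟨a, ha, b, hb, rfl⟩ := hsplit x
    rw [← mulVec_mulVec, one_smul, one_mulVec, hEv, hEv, map_add, hL0 a ha, hL1 b hb, map_add, hL0 a ha,
      hL1 _ ((D 1).neg_mem hb), neg_neg]
  · obtain ⟨a, ha, b, hb, rfl⟩ := hsplit u
    obtain ⟨a', ha', b', hb', rfl⟩ := hsplit v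
    rw [hEv, hEv, map_add, map_add, hL0 a ha, hL1 b hb, hL0 a' ha', hL1 b' hb', ← neg_one_smul F b,
      ← neg_one_smul F b', hs.bilinear.add_left, hs.bilinear.add_left, hs.bilinear.add_right, hs.bilinear.add_right,
      hs.bilinear.add_right, hs.bilinear.add_right, hs.bilinear.smul_left, hs.bilinear.smul_left,
      hs.bilinear.smul_right, hs.bilinear.smul_right, hts 0 a ha a' ha', hts 1 b hb b' hb']
    ring
  · rintro ⟨σ, hσ⟩
    have hin : ∀ i, ∀ x ∈ D i, (g : Matrix I4 I4 F) *ᵥ x ∈ D (σ i) := fun i x hx => by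
      rw [← hσ]; exact ⟨x, hx, Matrix.toLin'_apply _ _⟩
    have key : ∀ (c : F), (∀ i, ∀ x ∈ D i, E *ᵥ ((g : Matrix I4 I4 F) *ᵥ x) =
        c • ((g : Matrix I4 I4 F) *ᵥ (E *ᵥ x))) → c * c = 1 →
        (g : Matrix I4 I4 F) * E * ((g⁻¹ : GL I4 F) : Matrix I4 I4 F) = c • E := by
      intro c h hc
      refine Matrix.ext_iff_mulVec.2 fun y => ?_
      obtain ⟨x, rfl⟩ : ∃ x, y = (g : Matrix I4 I4 F) *ᵥ x :=
        ⟨((g⁻¹ : GL I4 F) : Matrix I4 I4 F) *ᵥ y, (gl_mulVec_inv g y).symm⟩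
      rw [← mulVec_mulVec, gl_inv_mulVec, ← mulVec_mulVec, smul_mulVec]
      obtain ⟨a, ha, b, hb, rfl⟩ := hsplit x
      rw [mulVec_add, mulVec_add, mulVec_add, mulVec_add, h 0 a ha, h 1 b hb, smul_add, smul_smul, smul_smul, hc,
        one_smul, one_smul]
    have hE0 : ∀ x ∈ D 0, E *ᵥ x = x := fun x hx => by rw [hEv, hL0 x hx]
    have hE1 : ∀ x ∈ D 1, E *ᵥ x = -x := fun x hx => by rw [hEv, hL1 x hx]
    rcases Fin.exists_fin_two.1 ⟨σ 0, rfl⟩ with h | h
    · refine ⟨1, Or.inl rfl, key 1 (fun i x hx => ?_) (one_mul _)⟩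
      have hσ1 : σ 1 = 1 := (Fin.eq_one_of_ne_zero _ fun h' => by simpa using σ.injective (h'.trans h.symm))
      fin_cases i
      · have h' : (g : Matrix I4 I4 F) *ᵥ x ∈ D 0 := h ▸ hin 0 x hx
        rw [one_smul, hE0 x hx, hE0 _ h']
      · have h' : (g : Matrix I4 I4 F) *ᵥ x ∈ D 1 := hσ1 ▸ hin 1 x hx
        rw [one_smul, hE1 x hx, hE1 _ h', mulVec_neg]
    · refine ⟨-1, Or.inr rfl, key (-1) (fun i x hx => ?_) (by ring)⟩
      have hσ1 : σ 1 = 0 := by
        have hne : σ 1 ≠ 1 := fun h' => by simpa using σ.injective (h'.trans h.symm)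
        rcases Fin.exists_fin_two.1 ⟨σ 1, rfl⟩ with h' | h'
        exacts [h', absurd h' hne]
      fin_cases i
      · have h' : (g : Matrix I4 I4 F) *ᵥ x ∈ D 1 := h ▸ hin 0 x hx
        rw [neg_one_smul, hE0 x hx, hE1 _ h']
      · have h' : (g : Matrix I4 I4 F) *ᵥ x ∈ D 0 := hσ1 ▸ hin 1 x hx
        rw [neg_one_smul, hE1 x hx, hE0 _ h', mulVec_neg, neg_neg]
  · rintro ⟨c, hc, hconj⟩
    have hg : ∀ x, E *ᵥ ((g : Matrix I4 I4 F) *ᵥ x) = c • ((g : Matrix I4 I4 F) *ᵥ (E *ᵥ x)) := fun x => by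
      have h1 := congrArg (fun A => A *ᵥ ((g : Matrix I4 I4 F) *ᵥ x)) hconj
      simp only [← mulVec_mulVec, gl_inv_mulVec, smul_mulVec] at h1
      rw [h1, smul_smul, show c * c = 1 by rcases hc with rfl | rfl <;> ring, one_smul]
    have hE0 : ∀ x ∈ D 0, E *ᵥ x = x := fun x hx => by rw [hEv, hL0 x hx]
    have hE1 : ∀ x ∈ D 1, E *ᵥ x = -x := fun x hx => by rw [hEv, hL1 x hx]
    have heq : ∀ i j : Fin 2, (∀ x ∈ D i, (g : Matrix I4 I4 F) *ᵥ x ∈ D j) →
        (D i).map (Matrix.toLin' (g : Matrix I4 I4 F)) = D j := by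
      intro i j h
      have hinj : Function.Injective (Matrix.toLin' (g : Matrix I4 I4 F)) := fun a b hab => by
        rw [Matrix.toLin'_apply, Matrix.toLin'_apply] at hab
        rw [← gl_inv_mulVec g a, hab, gl_inv_mulVec]
      refine Submodule.eq_of_le_of_finrank_le ?_ ?_
      · rintro _ ⟨x, hx, rfl⟩
        rw [Matrix.toLin'_apply]; exact h x hx
      · rw [← (Submodule.equivMapOfInjective _ hinj _).finrank_eq, hD.finrank_eq, hD.finrank_eq]
    rcases hc with rfl | rfl
    · refine ⟨1, fun i => heq i i fun x hx => ?_⟩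
      fin_cases i
      · exact hmem0 _ (by rw [hg, hE0 x hx, one_smul])
      · exact hmem1 _ (by rw [hg, hE1 x hx, one_smul, mulVec_neg])
    · refine ⟨Equiv.swap 0 1, fun i => heq i _ fun x hx => ?_⟩
      fin_cases i
      · exact hmem1 _ (by rw [hg, hE0 x hx, neg_one_smul])
      · exact hmem0 _ (by rw [hg, hE1 x hx, neg_one_smul, mulVec_neg, neg_neg])

/-- normalisers of quadratic subfields carrying a hermitian form are maximal -/
theorem unitary_maximal_four (hodd : Odd (Fintype.card F)) (hq : 5 ≤ Fintype.card F)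
    {K : Subalgebra F (Matrix I4 I4 F)} (hK : IsFieldSubalgebra 2 K)
    (hac : IsAdjointClosedFor (sympForm 2 F) K) (hnsa : ¬ IsSelfAdjointFor (sympForm 2 F) K) :
    IsMaximalIn (spGL 2 F) (subalgebraNormalizer K ⊓ spGL 2 F) := by
  classical
  have h2 := two_ne hodd
  have hf := Symp.isSymplecticForm_sympForm (m := 2) (F := F)
  rw [IsSelfAdjointFor] at hnsa
  push Not at hnsa
  obtain ⟨k, hk, u, v, huv⟩ := hnsa
  obtain ⟨k', hk', hadj⟩ := hac k hk
  have had' : ad k = k' := refl_J.adj_eq_of_forall fun a b => by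
    have h1 := hadj a b
    rwa [sympForm_eq] at h1
  obtain ⟨E, hEdef⟩ : ∃ E, E = k - k' := ⟨_, rfl⟩
  have hE : E ∈ K := hEdef ▸ K.sub_mem hk hk'
  have had : ad E = -E := by
    show adj (RingHom.id F) (Matrix.J (Fin 2) F) E = -E
    have hk'' : adj (RingHom.id F) (Matrix.J (Fin 2) F) k' = k := by
      rw [← show adj (RingHom.id F) (Matrix.J (Fin 2) F) k = k' from had', refl_J.adj_adj]
    rw [hEdef, refl_J.adj_sub, show adj (RingHom.id F) (Matrix.J (Fin 2) F) k = k' from had', hk'', neg_sub]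
  have hsc : ∀ c : F, ad E = -E → E = c • (1 : Matrix I4 I4 F) → E = 0 := fun c h hc => by
    have h1 : ad E = E := by
      show adj (RingHom.id F) (Matrix.J (Fin 2) F) E = E
      rw [hc, refl_J.adj_smul, refl_J.adj_one, RingHom.id_apply]
    rw [h, neg_eq_iff_add_eq_zero, ← two_smul F E, smul_eq_zero, or_iff_right h2] at h1
    exact h1
  have hne : E ≠ 0 := fun h => by
    rw [hEdef, sub_eq_zero] at h
    subst h
    exact huv (hadj u v)
  have hE0 : ∀ c : F, E ≠ c • (1 : Matrix I4 I4 F) := fun c hc => hne (hsc c had hc)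
  have hspan : ∀ x ∈ K, ∃ a b : F, x = a • 1 + b • E := by
    have hli : LinearIndependent F ![(⟨1, K.one_mem⟩ : K), ⟨E, hE⟩] := by
      rw [LinearIndependent.pair_iff]
      intro a b hab
      have h := congrArg Subtype.val hab
      simp only [Subalgebra.coe_add, Subalgebra.coe_smul, Subalgebra.coe_zero] at h
      rcases eq_or_ne b 0 with hb | hb
      · rw [hb, zero_smul, add_zero, smul_eq_zero] at h
        exact ⟨h.resolve_right one_ne_zero, hb⟩
      · refine absurd ?_ (hE0 (-(a / b)))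
        have h' : b • E = (-a) • (1 : Matrix I4 I4 F) := by
          rw [neg_smul]; exact eq_neg_of_add_eq_zero_right h
        rw [neg_div', div_eq_inv_mul, ← smul_smul, ← h', inv_smul_smul₀ hb]
    intro x hx
    have htop := hli.span_eq_top_of_card_eq_finrank (by rw [Fintype.card_fin, hK.finrank_eq])
    have hm : (⟨x, hx⟩ : K) ∈ Submodule.span F (Set.range ![(⟨1, K.one_mem⟩ : K), ⟨E, hE⟩]) :=
      htop ▸ Submodule.mem_top
    obtain ⟨c, hc⟩ := (Submodule.mem_span_range_iff_exists_fun F).1 hm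
    refine ⟨c 0, c 1, ?_⟩
    have h := congrArg Subtype.val hc
    simpa [Fin.sum_univ_two] using h.symm
  have hskew_coeff : ∀ {a b : F} {X : Matrix I4 I4 F}, X = a • 1 + b • E → ad X = -X → a = 0 := by
    intro a b X hX h
    subst hX
    change adj (RingHom.id F) (Matrix.J (Fin 2) F) _ = _ at h
    rw [refl_J.adj_add, refl_J.adj_smul, refl_J.adj_smul, refl_J.adj_one, RingHom.id_apply, RingHom.id_apply,
      show adj (RingHom.id F) (Matrix.J (Fin 2) F) E = _ from had, neg_add, smul_neg, add_left_inj,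
      eq_neg_iff_add_eq_zero, ← add_smul, smul_eq_zero, or_iff_left one_ne_zero, ← two_mul, mul_eq_zero,
      or_iff_right h2] at h
    exact h
  obtain ⟨d, b, hab⟩ := hspan _ (K.mul_mem hE hE)
  have hb : b = 0 := by
    have h1 : ad (E * E) = E * E := by
      show adj (RingHom.id F) (Matrix.J (Fin 2) F) (E * E) = _
      rw [refl_J.adj_mul, show adj (RingHom.id F) (Matrix.J (Fin 2) F) E = _ from had, neg_mul_neg]
    rw [hab] at h1
    change adj (RingHom.id F) (Matrix.J (Fin 2) F) _ = _ at h1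
    rw [refl_J.adj_add, refl_J.adj_smul, refl_J.adj_smul, refl_J.adj_one, RingHom.id_apply, RingHom.id_apply,
      show adj (RingHom.id F) (Matrix.J (Fin 2) F) E = _ from had, add_right_inj, smul_neg, neg_eq_iff_add_eq_zero,
      ← add_smul, smul_eq_zero, or_iff_left hne, ← two_mul, mul_eq_zero, or_iff_right h2] at h1
    exact h1
  rw [hb, zero_smul, add_zero] at hab
  have hd : d ≠ 0 := fun h => by
    rw [h, zero_smul] at hab
    obtain ⟨y, -, hy⟩ := hK.inv E hE hne
    have h1 := congrArg (· * y) hab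
    simp only [mul_assoc, hy, mul_one, zero_mul] at h1
    exact hne h1
  refine skew_stabilizer_maximal h2 hq hd hab had fun g hg => ⟨fun hn => ?_, ?_⟩
  · obtain ⟨a, c, hac'⟩ := hspan _ ((hn E).1 hE)
    have hskew : ad ((g : Matrix I4 I4 F) * E * ((g⁻¹ : GL I4 F) : Matrix I4 I4 F)) =
        -((g : Matrix I4 I4 F) * E * ((g⁻¹ : GL I4 F) : Matrix I4 I4 F)) := by
      show adj (RingHom.id F) (Matrix.J (Fin 2) F) _ = _
      rw [refl_J.adj_mul, refl_J.adj_mul,
        show adj (RingHom.id F) (Matrix.J (Fin 2) F) (g : Matrix I4 I4 F) = _ from mem_sp_iff.1 hg,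
        show adj (RingHom.id F) (Matrix.J (Fin 2) F) ((g⁻¹ : GL I4 F) : Matrix I4 I4 F) = _ from
          mem_sp_iff.1 (inv_mem hg), show adj (RingHom.id F) (Matrix.J (Fin 2) F) E = _ from had, inv_inv]
      simp [mul_assoc]
    rw [hskew_coeff hac' hskew, zero_smul, zero_add] at hac'
    refine ⟨c, mul_self_eq_one_iff.1 ?_, hac'⟩
    have h1 : (g : Matrix I4 I4 F) * E * ((g⁻¹ : GL I4 F) : Matrix I4 I4 F) *
        ((g : Matrix I4 I4 F) * E * ((g⁻¹ : GL I4 F) : Matrix I4 I4 F)) = d • 1 := by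
      simp only [mul_assoc]
      rw [← mul_assoc ((g⁻¹ : GL I4 F) : Matrix I4 I4 F) (g : Matrix I4 I4 F), gl_inv_mul, one_mul, ← mul_assoc E E,
        hab, smul_mul_assoc, one_mul, mul_smul_comm, gl_mul_inv]
    rw [hac', smul_mul_assoc, mul_smul_comm, smul_smul, hab, smul_smul] at h1
    have h3 : c * c * d = d := by simpa using congrFun (congrFun h1 (.inl 0)) (.inl 0)
    exact mul_right_cancel₀ hd (by rw [h3, one_mul])
  · rintro ⟨c, hc, hconj⟩
    have hc2 : c * c = 1 := by rcases hc with rfl | rfl <;> ring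
    intro x
    constructor
    · intro hx
      obtain ⟨p, r, rfl⟩ := hspan _ hx
      rw [mul_add, add_mul, mul_smul_comm, mul_smul_comm, smul_mul_assoc, smul_mul_assoc, mul_one, gl_mul_inv, hconj]
      exact K.add_mem (K.smul_mem K.one_mem _) (K.smul_mem (K.smul_mem hE _) _)
    · intro hx
      obtain ⟨p, r, hpr⟩ := hspan _ hx
      have e2 : ((g⁻¹ : GL I4 F) : Matrix I4 I4 F) * E * (g : Matrix I4 I4 F) = c • E := by
        have h1 := congrArg (fun A => ((g⁻¹ : GL I4 F) : Matrix I4 I4 F) * A * (g : Matrix I4 I4 F)) hconj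
        simp only [mul_smul_comm, smul_mul_assoc] at h1
        have h3 : ((g⁻¹ : GL I4 F) : Matrix I4 I4 F) *
            ((g : Matrix I4 I4 F) * E * ((g⁻¹ : GL I4 F) : Matrix I4 I4 F)) * (g : Matrix I4 I4 F) = E := by
          rw [← mul_assoc, ← mul_assoc, gl_inv_mul, one_mul, mul_assoc, gl_inv_mul, mul_one]
        rw [h3] at h1
        conv_rhs => rw [h1]
        rw [smul_smul, hc2, one_smul]
      have e : x = ((g⁻¹ : GL I4 F) : Matrix I4 I4 F) * ((g : Matrix I4 I4 F) * x * ((g⁻¹ : GL I4 F) : Matrix I4 I4 F)) *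
          (g : Matrix I4 I4 F) := by
        rw [← mul_assoc, ← mul_assoc, gl_inv_mul, one_mul, mul_assoc, gl_inv_mul, mul_one]
      rw [e, hpr, mul_add, add_mul, mul_smul_comm, mul_smul_comm, smul_mul_assoc, smul_mul_assoc, mul_one, gl_inv_mul, e2]
      exact K.add_mem (K.smul_mem K.one_mem _) (K.smul_mem (K.smul_mem hE _) _)

end CfsgLib.Perm.Trans.KleinFour
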