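import Cfsg.Agent.Lib.Perm.Trans.KleinFour.Basic
import Cfsg.Agent.Lib.Perm.Trans.OrthFrame.Maximal
import Cfsg.Agent.Lib.Perm.Elusive.STFour.Frame

/-!
# Normalisers of symplectic type two-groups in the four-dimensional symplectic groups

An absolutely irreducible group of order thirty-two of minus type gives five orthogonal lines of the Klein space; its
normaliser corresponds to the stabiliser of this frame.
-/

set_option autoImplicit false
set_option linter.all false

namespace CfsgLib.Perm.Trans.KleinFour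

open scoped Matrix
open Matrix Cfsg Cfsg.Geo CfsgLib.Perm.Asch CfsgLib.Perm.Trans

variable {F : Type*} [Field F] [Fintype F]

theorem scalar_eq_of_smul_one {a b : F} (h : a • (1 : Matrix I4 I4 F) = b • (1 : Matrix I4 I4 F)) : a = b := by
  simpa using congrFun (congrFun h (.inl 0)) (.inl 0)

/-- the normaliser of such a two-group is maximal -/
theorem normalizer_symplectic_maximal (hodd : Odd (Fintype.card F)) (hp : (Fintype.card F).Prime)
    {R : Subgroup (GL I4 F)} (hst : IsSymplecticTypeGroup 2 R) (habs : ActsAbsolutelyIrreducibly (matrixSet R))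
    (hle : R ≤ spGL 2 F) (hcard : Nat.card R = 32) (hZ : Nat.card (Subgroup.center R) = 2) (hm : IsOfMinusType 2 R) :
    IsMaximalIn (spGL 2 F) (subgroupNormalizer R ⊓ spGL 2 F) := by
  classical
  have h2 := two_ne hodd
  have hQ : IsNondegenerateQuadraticForm (qk : (Fin 5 → F) → F) := qk_nd h2
  haveI : Finite (GL I4 F) := inferInstance
  have hR : Elusive.STFour.Setting R := ⟨inferInstance, h2, hst, habs⟩
  obtain ⟨A, B, J, K, hA, hB, hJ, hK, hrel, hsc⟩ := hR.exists_frame_minus (by simp [I4]) hcard hZ hm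
  obtain ⟨x, hx⟩ : ∃ x : Fin 5 → GL I4 F, x = ![A, B, A * B * J, A * B * K, A * B * J * K] := ⟨_, rfl⟩
  have hxR : ∀ i, x i ∈ R := by
    intro i
    fin_cases i <;> simp [hx] <;> first
      | assumption
      | exact mul_mem (mul_mem (mul_mem hA hB) hJ) hK
      | exact mul_mem (mul_mem hA hB) hJ
      | exact mul_mem (mul_mem hA hB) hK
  have hsq : ∀ i, (x i : Matrix I4 I4 F) * x i = 1 := by
    intro i
    fin_cases i <;> simp [hx, mul_assoc, hrel.AA, hrel.BB, hrel.JJ, hrel.KK, hrel.BA, hrel.JA, hrel.JB, hrel.KA,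
      hrel.KB, hrel.KJ, hrel.AA', hrel.BB', hrel.JJ', hrel.KK', hrel.BA', hrel.JA', hrel.JB', hrel.KA', hrel.KB',
      hrel.KJ']
  have hanti : ∀ i j, i ≠ j → (x i : Matrix I4 I4 F) * x j = -((x j : Matrix I4 I4 F) * x i) := by
    intro i j hij
    fin_cases i <;> fin_cases j <;> simp at hij ⊢ <;> simp [hx, mul_assoc, hrel.AA, hrel.BB, hrel.JJ, hrel.KK,
      hrel.BA, hrel.JA, hrel.JB, hrel.KA, hrel.KB, hrel.KJ, hrel.AA', hrel.BB', hrel.JJ', hrel.KK', hrel.BA',
      hrel.JA', hrel.JB', hrel.KA', hrel.KB', hrel.KJ']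
  have hinv : ∀ i, (x i)⁻¹ = x i := fun i => inv_eq_of_mul_eq_one_right (Units.ext (by simpa using hsq i))
  obtain ⟨v, hv⟩ : ∃ v : Fin 5 → Fin 5 → F, v = fun i => coord (x i : Matrix I4 I4 F) := ⟨_, rfl⟩
  have hkv : ∀ i, klein (v i) = (x i : Matrix I4 I4 F) := by
    intro i
    rw [hv]
    refine klein_coord h2 ?_ ?_
    · rw [mem_sp_iff.1 (hle (hxR i)), hinv]
    · obtain ⟨j, hji⟩ := exists_ne i
      have h1 : (x j : Matrix I4 I4 F) * x i * x j = -(x i : Matrix I4 I4 F) := by
        rw [hanti j i hji, neg_mul, mul_assoc, hsq, mul_one]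
      have h3 : ((x j : Matrix I4 I4 F) * x i * x j).trace = (x i : Matrix I4 I4 F).trace := by
        rw [Matrix.trace_mul_cycle, hsq, one_mul]
      rw [h1, Matrix.trace_neg] at h3
      exact (mul_eq_zero.1 (show (2 : F) * (x i : Matrix I4 I4 F).trace = 0 by linear_combination -h3)).resolve_left h2
  have hqv : ∀ i, qk (v i) = 1 := fun i => scalar_eq_of_smul_one (by rw [← klein_mul_self, hkv, hsq, one_smul])
  have hpv : ∀ i j, i ≠ j → QuadraticMap.polar qk (v i) (v j) = 0 := fun i j hij => scalar_eq_of_smul_one (by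
    rw [← klein_anti, hkv, hkv, hanti i j hij, neg_add_cancel, zero_smul])
  have hli : LinearIndependent F v := by
    rw [Fintype.linearIndependent_iff]
    intro c hc j
    have h1 : Quad.pfl hQ (v j) (∑ i, c i • v i) = 0 := by rw [hc, map_zero]
    rw [map_sum, Finset.sum_eq_single j (fun i _ hij => by
      rw [map_smul, show Quad.pfl hQ (v j) (v i) = QuadraticMap.polar qk (v i) (v j) from rfl, hpv i j hij, smul_zero])
      (fun h => absurd (Finset.mem_univ j) h), map_smul,
      show Quad.pfl hQ (v j) (v j) = QuadraticMap.polar qk (v j) (v j) from rfl, Quad.pself hQ, hqv, smul_eq_mul] at h1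
    exact (mul_eq_zero.1 h1).resolve_right (by simpa using h2)
  have hne : ∀ i, v i ≠ 0 := fun i => hli.ne_zero i
  have hspan : Submodule.span F (Set.range v) = ⊤ :=
    hli.span_eq_top_of_card_eq_finrank (by simp [Module.finrank_fintype_fun_eq_card])
  obtain ⟨D, hDdef⟩ : ∃ D : Fin 5 → Submodule F (Fin 5 → F), D = fun i => Submodule.span F {v i} := ⟨_, rfl⟩
  have hDm : ∀ {i : Fin 5} {w : Fin 5 → F}, w ∈ D i ↔ ∃ c : F, c • v i = w := by
    intro i w
    rw [hDdef]
    exact Submodule.mem_span_singleton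
  have hD : IsOrthogonalMDecomposition qk 1 D := by
    refine ⟨⟨⟨by norm_num, one_pos, fun i => ?_, ?_, ?_⟩, fun i w hw hw0 => ?_, fun i j hij a ha b hb => ?_⟩,
      fun i j => ?_⟩
    · rw [hDdef]
      exact finrank_span_singleton (hne i)
    · rw [hDdef]
      exact hli.iSupIndep_span_singleton
    · rw [hDdef, ← Submodule.span_range_eq_iSup, hspan]
    · obtain ⟨c, rfl⟩ := hDm.1 hw
      have hc : c ≠ 0 := fun h => hw0 (by rw [h, zero_smul])
      refine ⟨⟨v i, hDm.2 ⟨1, one_smul _ _⟩, ?_⟩, ⟨v i, hDm.2 ⟨1, one_smul _ _⟩, ?_⟩⟩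
      · rw [Quad.psmul_right hQ, Quad.pself hQ, hqv]
        simp [hc, h2]
      · rw [Quad.psmul_left hQ, Quad.pself hQ, hqv]
        simp [hc, h2]
    · obtain ⟨c, rfl⟩ := hDm.1 ha
      obtain ⟨d, rfl⟩ := hDm.1 hb
      rw [Quad.psmul_left hQ, Quad.psmul_right hQ, hpv i j hij, mul_zero, mul_zero]
    · rw [hDdef]
      refine ⟨(LinearEquiv.toSpanNonzeroSingleton F _ (v i) (hne i)).symm.trans
        (LinearEquiv.toSpanNonzeroSingleton F _ (v j) (hne j)), fun w => ?_⟩
      obtain ⟨c, rfl⟩ := (LinearEquiv.toSpanNonzeroSingleton F _ (v i) (hne i)).surjective w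
      rw [LinearEquiv.trans_apply, LinearEquiv.symm_apply_apply]
      show qk (c • v j) = qk (c • v i)
      rw [Quad.qsmul hQ, Quad.qsmul hQ, hqv, hqv]
  -- a Klein matrix in the group is one of the five up to sign
  have hkey : ∀ r ∈ R, ∀ w, klein w = (r : Matrix I4 I4 F) → ∃ (i : Fin 5) (c : F), w = c • v i := by
    intro r hr w hw
    by_cases hall : ∀ i, (r : Matrix I4 I4 F) * x i = -((x i : Matrix I4 I4 F) * r)
    · exfalso
      have h0 : ∀ i, QuadraticMap.polar qk w (v i) = 0 := fun i => scalar_eq_of_smul_one (by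
        rw [← klein_anti, hw, hkv, hall i, neg_add_cancel, zero_smul])
      have hw0 : w = 0 := by
        by_contra h
        obtain ⟨y, hy⟩ := (hQ.nondegenerate w h).2
        apply hy
        have hy' : y ∈ Submodule.span F (Set.range v) := by rw [hspan]; trivial
        have hle' : Submodule.span F (Set.range v) ≤ LinearMap.ker (Quad.pfl hQ w) :=
          Submodule.span_le.2 (by
            rintro _ ⟨i, rfl⟩
            show QuadraticMap.polar qk (v i) w = 0
            rw [QuadraticMap.polar_comm]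
            exact h0 i)
        rw [QuadraticMap.polar_comm]
        exact hle' hy'
      rw [hw0, klein_zero] at hw
      exact r.ne_zero hw.symm
    · push Not at hall
      obtain ⟨i, hi⟩ := hall
      have hcomm := (hR.sign hr (hxR i)).resolve_right hi
      obtain ⟨c, hc⟩ : ∃ c : F, c = QuadraticMap.polar qk w (v i) / 2 := ⟨_, rfl⟩
      have h1 : klein w * klein (v i) = c • (1 : Matrix I4 I4 F) := by
        have h := klein_anti w (v i)
        rw [hw, hkv, ← hcomm, ← two_smul F] at h
        rw [hw, hkv, hc, ← inv_smul_smul₀ h2 ((r : Matrix I4 I4 F) * x i), h, smul_smul]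
        congr 1
        field_simp
      refine ⟨i, c, klein_injective ?_⟩
      rw [klein_smul, hkv]
      calc klein w = klein w * klein (v i) * x i := by rw [mul_assoc, hkv, hsq, mul_one]
        _ = c • (x i : Matrix I4 I4 F) := by rw [h1, smul_mul_assoc, one_mul]
  -- generation
  have hAm : A ∈ Subgroup.closure (Set.range x) := Subgroup.subset_closure ⟨0, by simp [hx]⟩
  have hBm : B ∈ Subgroup.closure (Set.range x) := Subgroup.subset_closure ⟨1, by simp [hx]⟩
  have hJm : J ∈ Subgroup.closure (Set.range x) := by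
    have h := mul_mem (inv_mem (mul_mem hAm hBm)) (Subgroup.subset_closure (k := Set.range x) ⟨2, rfl⟩)
    simpa [hx, mul_assoc] using h
  have hKm : K ∈ Subgroup.closure (Set.range x) := by
    have h := mul_mem (inv_mem (mul_mem hAm hBm)) (Subgroup.subset_closure (k := Set.range x) ⟨3, rfl⟩)
    simpa [hx, mul_assoc] using h
  have hneg : ((A * B * (A * B) : GL I4 F) : Matrix I4 I4 F) = (-1 : F) • 1 := by
    simp [mul_assoc, hrel.AA, hrel.BB, hrel.BA, hrel.AA', hrel.BB', hrel.BA']
  have hgen : R ≤ Subgroup.closure (Set.range x) := by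
    intro r hr
    obtain ⟨a, b, c, d, s, hs⟩ := hR.exists_word (by simp [I4]) hA hB hJ hK hrel hr
    obtain ⟨P, hP⟩ : ∃ P, P = A ^ (a : ℕ) * B ^ (b : ℕ) * J ^ (c : ℕ) * K ^ (d : ℕ) := ⟨_, rfl⟩
    rw [← hP] at hs
    have hPm : P ∈ Subgroup.closure (Set.range x) := hP ▸
      mul_mem (mul_mem (mul_mem (pow_mem hAm _) (pow_mem hBm _)) (pow_mem hJm _)) (pow_mem hKm _)
    have hPR : P ∈ R := hP ▸ mul_mem (mul_mem (mul_mem (pow_mem hA _) (pow_mem hB _)) (pow_mem hJ _)) (pow_mem hK _)
    have hz : P * r ∈ Subgroup.closure (Set.range x) := by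
      rcases mul_self_eq_one_iff.1 (hsc _ (mul_mem hPR hr) s hs) with h | h
      · rw [show P * r = 1 from Units.ext (by rw [hs, h, one_smul, Units.val_one])]
        exact one_mem _
      · rw [show P * r = A * B * (A * B) from Units.ext (by rw [hs, h, hneg])]
        exact mul_mem (mul_mem hAm hBm) (mul_mem hAm hBm)
    simpa using mul_mem (inv_mem hPm) hz
  refine maximal_transfer h2 (OrthFrame.frame_stabilizer_maximal' hQ hp hodd (by simp) (by simp) hD)
    fun g => ⟨fun hg => ?_, fun hg => ?_⟩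
  · have h1 : ∀ i, ∃ (k : Fin 5) (c : F), (phi h2 g : Matrix (Fin 5) (Fin 5) F) *ᵥ v i = c • v k := by
      intro i
      have hmem : g.1 * x i * g.1⁻¹ ∈ R := (Subgroup.mem_normalizer_iff.1 hg (x i)).1 (hxR i)
      refine hkey _ hmem _ ?_
      rw [klein_phi, hkv, Units.val_mul, Units.val_mul]
    choose σ c hσ using h1
    have hc0 : ∀ i, c i ≠ 0 := fun i h => hne i (by
      have h' := hσ i
      rw [h, zero_smul] at h'
      exact gl_mulVec_eq_zero.1 h')
    have hinj : Function.Injective σ := by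
      intro i j hij
      by_contra hne'
      have h3 : v i + (-(c i / c j)) • v j = 0 := (gl_mulVec_eq_zero (g := phi h2 g)).1 (by
        rw [Matrix.mulVec_add, Matrix.mulVec_smul, hσ, hσ, hij, smul_smul, ← add_smul, neg_mul,
          div_mul_cancel₀ _ (hc0 j), add_neg_cancel, zero_smul])
      have h4 := congrArg (Quad.pfl hQ (v i)) h3
      rw [map_add, map_smul, map_zero, show Quad.pfl hQ (v i) (v i) = QuadraticMap.polar qk (v i) (v i) from rfl,
        show Quad.pfl hQ (v i) (v j) = QuadraticMap.polar qk (v j) (v i) from rfl, Quad.pself hQ, hqv,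
        hpv j i (Ne.symm hne'), smul_zero, add_zero, mul_one] at h4
      exact h2 h4
    refine ⟨Equiv.ofBijective σ (Finite.injective_iff_bijective.1 hinj), fun i => ?_⟩
    rw [Equiv.ofBijective_apply, hDdef]
    simp only [Submodule.map_span, Set.image_singleton, Matrix.toLin'_apply, hσ]
    exact Submodule.span_singleton_smul_eq (Ne.isUnit (hc0 i)) _
  · obtain ⟨σ, hσ⟩ := hg
    have hgx : ∀ i, g.1 * x i * g.1⁻¹ ∈ R := by
      intro i
      have h1 : (phi h2 g : Matrix (Fin 5) (Fin 5) F) *ᵥ v i ∈ D (σ i) := by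
        rw [← hσ]
        exact ⟨v i, hDm.2 ⟨1, one_smul _ _⟩, Matrix.toLin'_apply _ _⟩
      obtain ⟨c, hc⟩ := hDm.1 h1
      have hc2 : c * c = 1 := by
        have h := kmap_isom h2 g.2 (v i)
        rw [← phi_apply h2, ← hc, Quad.qsmul hQ, hqv, hqv] at h
        linear_combination h
      have hmat : ((g.1 * x i * g.1⁻¹ : GL I4 F) : Matrix I4 I4 F) = c • (x (σ i) : Matrix I4 I4 F) := by
        rw [Units.val_mul, Units.val_mul, ← hkv, ← klein_phi h2, ← hc, klein_smul, hkv]
      rcases mul_self_eq_one_iff.1 hc2 with rfl | rfl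
      · rw [show g.1 * x i * g.1⁻¹ = x (σ i) from Units.ext (by rw [hmat, one_smul])]
        exact hxR _
      · exact Elusive.STFour.mem_of_smul (mul_mem (mul_mem hA hB) (mul_mem hA hB)) (hxR _) hneg hmat
    have hmap : ∀ r ∈ R, g.1 * r * g.1⁻¹ ∈ R := fun r hr =>
      (Subgroup.closure_le (R.comap (MulAut.conj g.1).toMonoidHom)).2 (by
        rintro _ ⟨i, rfl⟩
        exact hgx i) (hgen hr)
    refine Subgroup.mem_normalizer_iff.2 fun h => ⟨hmap h, fun hh => ?_⟩
    let f : R → R := fun r => ⟨g.1 * r * g.1⁻¹, hmap r r.2⟩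
    have hf : Function.Injective f := fun a b hab => Subtype.ext (by
      have := congrArg Subtype.val hab
      simpa [f] using this)
    obtain ⟨r, hr⟩ := Finite.injective_iff_surjective.1 hf ⟨_, hh⟩
    have hrh : (r : GL I4 F) = h := by simpa [f] using congrArg Subtype.val hr
    exact hrh ▸ r.2

end CfsgLib.Perm.Trans.KleinFour
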